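import Groth.Agent.BorelLib.NonAffImage
import Groth.Agent.BorelLib.RedTorus
import Groth.Agent.BorelLib.CentralPreimageRel
import Groth.Agent.BorelLib.RedClosed
import Groth.Agent.MaxTorConjLib.Geom
import Groth.Agent.S3006

/-!
Maximal tori and central isogenies of reductive groups.
-/

set_option autoImplicit false
set_option backward.isDefEq.respectTransparency false
set_option maxHeartbeats 1000000
set_option synthInstance.maxHeartbeats 400000

universe u

open CategoryTheory CategoryTheory.Limits MonoidalCategory CartesianMonoidalCategory AlgebraicGeometry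
open scoped MonObj

noncomputable section

attribute [-instance] CategoryTheory.Hom.commGroup

namespace Groth.Agent.TorIsog

open Groth.Agent.BorelLib Groth.Agent.BorelLib.CentPre

variable {k : Type u} [Field k]

/-- The kernel of a homomorphism is central as soon as the points of a kernel scheme are. -/
theorem kerCentral_of_isKernel {S : Scheme.{u}} {G H K : Over S} [GrpObj G] [GrpObj H] [GrpObj K] {f : G ⟶ H}
    {iK : K ⟶ G} (hK : AlgGrp.IsKernel iK f)
    (hKc : ∀ (X : Over S) (x : X ⟶ K) (X' : Over S) (y : X' ⟶ X) (h : X' ⟶ G),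
      (y ≫ x ≫ iK) * h = h * (y ≫ x ≫ iK)) : KerCentral f := by
  intro X z hz X' x g
  have hz' : z ≫ f = toUnit X ≫ η[H] := hz.trans (MonObj.one_eq_one (M := H) ▸ (MonObj.comp_one _).symm)
  have h1 := hK.lift_fst z (toUnit X) hz'
  rw [← h1]
  exact hKc X _ X' x g

/-- A maximal torus of a reductive group over a field contains every central point. -/
theorem exists_factor_maxTorus {G T : Over (Spec (CommRingCat.of k))} [GrpObj G] [GrpObj T] (hG : Red.IsReductive G)
    {i : T ⟶ G} (hT : Red.IsMaximalTorus i) {X : Over (Spec (CommRingCat.of k))} (z : X ⟶ G)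
    (hz : ∀ (X' : Over (Spec (CommRingCat.of k))) (x : X' ⟶ X) (g : X' ⟶ G), (x ≫ z) * g = g * (x ≫ z)) :
    ∃ y : X ⟶ T, y ≫ i = z := by
  let s : ↥(Spec (CommRingCat.of k)) := IsLocalRing.closedPoint k
  haveI := hT.1; haveI := hT.2.1
  obtain ⟨ha, hs, -, -⟩ := reductive_data s hG
  haveI := ha; haveI := hs
  obtain ⟨hTc, -⟩ := subtorus_facts s i hT.2.2.1
  obtain ⟨⟨C, _, c, hc, -, -⟩, -⟩ := Groth.Agent.S3006.result _ G T i hTc hT.2.2.1
  obtain ⟨a, ha'⟩ := (hc.2.2 T i).2 fun X' x h => by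
    rw [← MonObj.mul_comp, ← MonObj.mul_comp, subtorus_comm s i hT.2.2.1]
  haveI := isIso_centralizer_maxTorus s hG hT hc a ha'
  obtain ⟨y, hy⟩ := (hc.2.2 X z).2 fun X' x h => hz X' x _
  exact ⟨y ≫ CategoryTheory.inv a, by rw [← ha', Category.assoc, IsIso.inv_hom_id_assoc, hy]⟩

/-- A maximal torus is the preimage of its image. -/
theorem isPullback_maxTorus {G G' T T' : Over (Spec (CommRingCat.of k))} [GrpObj G] [GrpObj G'] [GrpObj T] [GrpObj T']
    (hG : Red.IsReductive G) {u : G ⟶ G'} [IsMonHom u] (hker : KerCentral u) {i : T ⟶ G} (hT : Red.IsMaximalTorus i)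
    {i' : T' ⟶ G'} [IsMonHom i'] [Mono i'] {w : T ⟶ T'} [Flat w.left] [Surjective w.left] (hw : w ≫ i' = i ≫ u) :
    IsPullback i w u i' := by
  let s : ↥(Spec (CommRingCat.of k)) := IsLocalRing.closedPoint k
  haveI := hT.1; haveI := hT.2.1
  obtain ⟨ha, hs, -, -⟩ := reductive_data s hG
  haveI := ha; haveI := hs
  obtain ⟨hTc, -⟩ := subtorus_facts s i hT.2.2.1
  haveI := hTc
  exact isPullback_of_ker_le hw.symm fun X z hz => exists_factor_maxTorus hG hT z (hker X z hz)

/-- The preimage of a maximal torus is a maximal torus, over an algebraically closed field. -/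
theorem isMaxTorus_preimage [IsAlgClosed k] {G G' T T' : Over (Spec (CommRingCat.of k))} [GrpObj G] [GrpObj G']
    [GrpObj T] [GrpObj T'] [IsAffine G.left] [Smooth G.hom] [ConnectedSpace G.left] [IsAffine G'.left] [Smooth G'.hom]
    [ConnectedSpace G'.left] (hG : Red.IsReductive G) {u : G ⟶ G'} [IsMonHom u] [Surjective u.left]
    (hker : KerCentral u) {iT : T ⟶ G'} (hT : AGF.IsMaxTorus iT) {i' : T' ⟶ G} [IsMonHom i'] {p : T' ⟶ T}
    (hsq : IsPullback i' p u iT) : AGF.IsMaxTorus i' := by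
  obtain ⟨T₁, _, i₁, h₁⟩ := NA.exists_maxTorus (G := G)
  obtain ⟨T₂, _, i₂, w, h₂, hwm, hwf, hws, hw⟩ := NA.exists_image_maxTorus (u := u) h₁
  haveI := h₁.1; haveI := h₁.2.1; haveI := h₂.1; haveI := h₂.2.1; haveI := hwm; haveI := hwf; haveI := hws
  haveI := hT.1; haveI := hT.2.1
  obtain ⟨g, φ, hφ⟩ := MaxTorConj.conj_algClosed h₂ hT
  haveI : IsSeparated G'.hom := Groth.Agent.GrpField.isSeparated_grp (G := G')
  obtain ⟨g₀, hg₀⟩ := AVAmpleLib.exists_pt_lift u g
  haveI := DiagRep.isMonHom_conjBy g₀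
  let e : G ≅ G := asIso (AGF.conjBy g₀ (𝟙 G))
  haveI : IsMonHom e.hom := DiagRep.isMonHom_conjBy g₀
  let i₃ : T₁ ⟶ G := i₁ ≫ e.hom
  have h₃ : AGF.IsMaxTorus i₃ := RCentre.isMaxTorus_comp_iso h₁ e
  have hi₃ : i₃ = (toUnit T₁ ≫ g₀) * i₁ * (toUnit T₁ ≫ g₀)⁻¹ := by
    show i₁ ≫ AGF.conjBy g₀ (𝟙 G) = _
    rw [← DiagRep.conjBy_eq_comp]
  let w₃ : T₁ ⟶ T := w ≫ φ.hom
  have hw₃ : w₃ ≫ iT = i₃ ≫ u := by
    show (w ≫ φ.hom) ≫ iT = _
    rw [Category.assoc, ← hφ, hi₃]
    simp only [MonObj.comp_mul, MonObj.mul_comp, GrpObj.comp_inv, GrpObj.inv_comp, Category.assoc, hw, hg₀,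
      comp_toUnit_assoc]
  haveI : Flat w₃.left := inferInstanceAs (Flat (w.left ≫ φ.hom.left))
  haveI : Surjective w₃.left := by
    haveI : IsIso φ.hom.left := inferInstanceAs (IsIso ((Over.forget _).map φ.hom))
    exact inferInstanceAs (Surjective (w.left ≫ φ.hom.left))
  have hpb : IsPullback i₃ w₃ u iT :=
    isPullback_maxTorus hG hker (isMaximalTorus_of_isMaxTorus h₃) hw₃
  haveI := h₃.1; haveI := h₃.2.1
  let ε : T' ≅ T₁ := hsq.isoIsPullback _ _ hpb
  have hε : ε.hom ≫ i₃ = i' := hsq.isoIsPullback_hom_fst _ _ hpb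
  haveI : Mono i' := hε ▸ inferInstance
  haveI : IsMonHom (ε.hom ≫ i₃) := by rw [hε]; infer_instance
  haveI : IsMonHom ε.hom := DiagRep.isMonHom_of_comp_mono ε.hom i₃
  refine ⟨inferInstance, inferInstance, RedRank.isTorus_of_iso ε h₃.2.2.1, fun T'' _ j _ _ f hT'' hf => ?_⟩
  haveI : IsIso (ε.inv ≫ f) := h₃.2.2.2 T'' j (ε.inv ≫ f) hT'' (by
    rw [Category.assoc, hf, Iso.inv_comp_eq, hε])
  exact IsIso.of_isIso_comp_left ε.inv f

/-- The preimage of a maximal torus under a central isogeny is a maximal torus. -/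
theorem isMaximalTorus_preimage {G G' T T' : Over (Spec (CommRingCat.of k))} [GrpObj G] [GrpObj G'] [GrpObj T]
    [GrpObj T'] (hG : Red.IsReductive G) (hG' : Red.IsReductive G') {f : G ⟶ G'} [IsMonHom f] [Surjective f.left]
    (hker : KerCentral f) {i : T ⟶ G'} (hT : Red.IsMaximalTorus i) {i' : T' ⟶ G} [IsMonHom i'] {p : T' ⟶ T}
    (hsq : IsPullback i' p f i) : Red.IsMaximalTorus i' := by
  let s : ↥(Spec (CommRingCat.of k)) := IsLocalRing.closedPoint k
  obtain ⟨ha, hs, hc⟩ := (hG.2.2 s)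
  obtain ⟨ha', hs', hc', -⟩ := (hG'.2.2 s)
  haveI := ha; haveI := hs; haveI := hc.1; haveI := ha'; haveI := hs'; haveI := hc'
  haveI := hT.1; haveI := hT.2.1
  haveI : (Over.pullback (Red.geomPt s)).IsRightAdjoint := (Over.mapPullbackAdj _).isRightAdjoint
  haveI : PreservesLimitsOfSize.{0, 0} (Over.pullback (Red.geomPt s)) :=
    (Over.mapPullbackAdj _).rightAdjoint_preservesLimits
  haveI := DiagRep.isMonHom_bc_map (Red.geomPt s) f
  haveI := DiagRep.isMonHom_bc_map (Red.geomPt s) i'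
  haveI : Surjective ((Over.pullback (Red.geomPt s)).map f).left :=
    MorphismProperty.baseChange_map (P := @Surjective) (Red.geomPt s) f inferInstance
  have hred : Red.IsReductive (Red.geomFibre s G) := isReductive_of_isReductiveOver (hG.2.2 s)
  have hgeo := isMaxTorus_preimage hred (kerCentral_bc (Red.geomPt s) hker) (isMaxTorus_geom s hT)
    (hsq.map (Over.pullback (Red.geomPt s)))
  haveI : Mono i' := ⟨fun a b h => hsq.hom_ext h ((cancel_mono i).1 (by
    simp only [Category.assoc, ← hsq.w]; rw [reassoc_of% h]))⟩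
  refine ⟨inferInstance, inferInstance, isTorus_of_geom s hgeo.2.2.1, fun s' T₁ _ j _ _ g hT₁ hg => ?_⟩
  haveI : Subsingleton ↥(Spec (CommRingCat.of k)) := inferInstanceAs (Subsingleton (PrimeSpectrum k))
  obtain rfl := Subsingleton.elim s s'
  exact hgeo.2.2.2 T₁ j g hT₁ hg

end Groth.Agent.TorIsog
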